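import Mathlib
import Cfsg.Agent.Lib.Helper71.SUG2.Defs

/-!
# Project SUG (S2412), block [II], package [II-COMB4]

With all pairs `e_i + a e_j` and `w = e_0 + e_1 + e_2 + e_3`, a set closed under zero, scalars and
third points contains every vector of weight 4 (`n ≥ 5`).
-/

set_option autoImplicit false
open scoped Matrix

namespace Cfsg.Agent.Lib.Helper72.SUG2

open Cfsg.Agent.Lib.Helper71.SUG2

universe u

variable {F : Type u} [Field F] {n : ℕ}

/-- `H(x, e_i + a e_j) = x_i + x_j a²`. -/
theorem H_pair72 (x : Fin n → F) (i j : Fin n) (hij : i ≠ j) (a : F) :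
    H n F x (E i + a • E j) = x i + x j * a ^ 2 := by
  classical
  rw [H_apply, Finset.sum_eq_add_of_mem i j (Finset.mem_univ _) (Finset.mem_univ _) hij]
  · simp [hij, Ne.symm hij]
  · intro k _ ⟨hki, hkj⟩
    simp [hki, hkj]

/-- the monomial move `x_i ↦ a² x_j`, `x_j ↦ a x_i` given by a third point. -/
theorem third_pair72 [Fintype F] (hF : Fintype.card F = 2 ^ 2) (x : Fin n → F) (i j : Fin n)
    (hij : i ≠ j) (a : F) (ha : a ≠ 0) :
    x + H n F x (E i + a • E j) • (E i + a • E j) =
      fun k => if k = i then a ^ 2 * x j else if k = j then a * x i else x k := by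
  classical
  have h2 : (2 : F) = 0 := f4_two hF
  have h3 : a ^ 3 = 1 := f4_cube hF a ha
  rw [H_pair72 x i j hij a]
  funext k
  by_cases hki : k = i
  · subst hki
    simp [hij]
    linear_combination x k * h2
  · by_cases hkj : k = j
    · subst hkj
      simp [hki]
      linear_combination x k * h3 + x k * h2
    · simp [hki, hkj]

section closure

variable [Fintype F] (hF : Fintype.card F = 2 ^ 2) {C : Set (Fin n → F)} (hC : VBase n F C)
  (hP : ∀ i j : Fin n, i ≠ j → ∀ a : F, a ≠ 0 → (E i + a • E j : Fin n → F) ∈ C)

include hF hC hP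

theorem move_mem72 (x : Fin n → F) (hx : x ∈ C) (i j : Fin n) (hij : i ≠ j) (a : F)
    (ha : a ≠ 0) :
    (fun k => if k = i then a ^ 2 * x j else if k = j then a * x i else x k) ∈ C := by
  rw [← third_pair72 hF x i j hij a ha]
  exact hC.third x hx _ (hP i j hij a ha)

theorem swap_mem72 (x : Fin n → F) (hx : x ∈ C) (i j : Fin n) (hij : i ≠ j) :
    x ∘ Equiv.swap i j ∈ C := by
  have h := move_mem72 hF hC hP x hx i j hij 1 one_ne_zero
  convert h using 1
  funext k
  simp only [Function.comp_apply, Equiv.swap_apply_def, one_pow, one_mul]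
  split_ifs <;> rfl

theorem perm_mem72 (σ : Equiv.Perm (Fin n)) : ∀ x ∈ C, x ∘ σ ∈ C := by
  refine Equiv.Perm.swap_induction_on σ ?_ ?_
  · intro x hx
    exact hx
  · intro f i j hij ih x hx
    exact ih (x ∘ Equiv.swap i j) (swap_mem72 hF hC hP x hx i j hij)

theorem rescale_mem72 (x : Fin n → F) (hx : x ∈ C) (i j : Fin n) (hij : i ≠ j) (hj : x j = 0)
    (a : F) (ha : a ≠ 0) : Function.update x i (a * x i) ∈ C := by
  classical
  have h1 := move_mem72 hF hC hP x hx i j hij a ha
  have h2 := swap_mem72 hF hC hP _ h1 i j hij
  convert h2 using 1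
  funext k
  simp only [Function.comp_apply, Equiv.swap_apply_def, Function.update_apply]
  by_cases hki : k = i
  · subst hki
    simp [Ne.symm hij]
  · by_cases hkj : k = j
    · subst hkj
      simp [hki, hj]
    · simp [hki, hkj]

end closure

theorem pkgComb4 : PkgComb4.{u} := by
  intro F _ _ hF n hn C hC hP hw v hv
  classical
  have hz : ∃ j, v j = 0 := by
    by_contra hne
    push Not at hne
    have : weight v = n := by
      unfold weight
      rw [Finset.filter_true_of_mem (fun i _ => hne i), Finset.card_univ, Fintype.card_fin]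
    omega
  obtain ⟨j₀, hj₀⟩ := hz
  have hScard : (Finset.univ.filter (fun i : Fin n => v i ≠ 0)).card = 4 := by
    rw [← hv]
    unfold weight
    congr
  have hW : (Finset.univ.filter (fun i : Fin n => i.val < 4)).card = 4 := by
    have : Finset.univ.filter (fun i : Fin n => i.val < 4) =
        Finset.univ.image (Fin.castLE (by omega : 4 ≤ n)) := by
      ext k
      simp only [Finset.mem_filter, Finset.mem_univ, true_and, Finset.mem_image]
      constructor
      · intro hk
        exact ⟨⟨k.val, hk⟩, Fin.ext rfl⟩
      · rintro ⟨j, rfl⟩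
        exact j.isLt
    rw [this, Finset.card_image_of_injective _ (Fin.castLE_injective _), Finset.card_univ,
      Fintype.card_fin]
  let e : {x // x ∈ Finset.univ.filter (fun i : Fin n => v i ≠ 0)} ≃
      {x // x ∈ Finset.univ.filter (fun i : Fin n => i.val < 4)} :=
    Finset.equivOfCardEq (hScard.trans hW.symm)
  have hu : (fun k => if v k ≠ 0 then (1 : F) else 0) ∈ C := by
    have h := perm_mem72 hF hC hP e.extendSubtype (wvec n F) hw
    convert h using 1
    funext k
    simp only [Function.comp_apply, wvec]
    by_cases hk : v k ≠ 0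
    · have hkS : k ∈ Finset.univ.filter (fun i : Fin n => v i ≠ 0) := by
        rw [Finset.mem_filter]; exact ⟨Finset.mem_univ _, hk⟩
      have h1 := e.extendSubtype_mem k hkS
      rw [Finset.mem_filter] at h1
      rw [if_pos hk, if_pos h1.2]
    · have hkS : k ∉ Finset.univ.filter (fun i : Fin n => v i ≠ 0) := by
        rw [Finset.mem_filter]; exact fun h => hk h.2
      have h1 := e.extendSubtype_not_mem k hkS
      rw [Finset.mem_filter] at h1
      rw [if_neg hk, if_neg (fun h => h1 ⟨Finset.mem_univ _, h⟩)]
  have hT : ∀ T : Finset (Fin n),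
      (fun k => if k ∈ T then v k else if v k ≠ 0 then (1 : F) else 0) ∈ C := by
    intro T
    induction T using Finset.induction_on with
    | empty => simpa using hu
    | insert i T hiT ih =>
      by_cases hvi : v i = 0
      · convert ih using 1
        funext k
        by_cases hk : k = i
        · subst hk
          simp [hiT, hvi]
        · simp [Finset.mem_insert, hk]
      · have hij : i ≠ j₀ := fun h => hvi (h ▸ hj₀)
        have h := rescale_mem72 hF hC hP _ ih i j₀ hij (by simp [hj₀]) (v i) hvi
        convert h using 1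
        funext k
        by_cases hk : k = i
        · subst hk
          simp [hiT, hvi]
        · simp [Finset.mem_insert, hk]
  have h := hT Finset.univ
  simpa using h

end Cfsg.Agent.Lib.Helper72.SUG2
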